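import Groth.Prelude.Def_AlgGrp
import Groth.Prelude.Def_VecGrp
import Groth.Agent.Lib.Repr.AffinePts
import Groth.Agent.Lib.DiagGrp.ActionTrivial
import Groth.Agent.Lib.RedSmooth.Basic
import Mathlib.AlgebraicGeometry.FunctionField
import Mathlib.AlgebraicGeometry.Morphisms.Smooth
import Mathlib.AlgebraicGeometry.Morphisms.Separated
import Mathlib.AlgebraicGeometry.Morphisms.UniversallyOpen
import Mathlib.FieldTheory.RatFunc.Basic

/-!
# The rational flow of an action of a line
-/

set_option autoImplicit false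
set_option linter.style.haveILetI false
set_option backward.isDefEq.respectTransparency false

universe u

open CategoryTheory CategoryTheory.Limits MonoidalCategory CartesianMonoidalCategory MonObj GrpObj AlgebraicGeometry
open VecGrp

noncomputable section

namespace GrothLib.RuledGa21

attribute [local instance 2000] Algebra.toModule

variable {k : Type u} [Field k] {X : Over (Spec (CommRingCat.of k))} [IsIntegral X.left]
  [Algebra k X.left.functionField] (gen : pt k X.left.functionField ⟶ X)
  (hgen : gen.left = X.left.fromSpecStalk (genericPoint X.left))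

include hgen

theorem gen_injective {E : Type u} [Field E] [Algebra k E] {x y : X.left.functionField →ₐ[k] E}
    (h : ptMap x ≫ gen = ptMap y ≫ gen) : x = y := by
  have h1 := congrArg Over.Hom.left h
  rw [Over.comp_left, Over.comp_left, hgen, cancel_mono, ptMap_left, ptMap_left] at h1
  exact AlgHom.coe_ringHom_injective (congrArg CommRingCat.Hom.hom (Spec.map_injective h1))

theorem exists_eq_gen {E : Type u} [Field E] [Algebra k E] (x : pt k E ⟶ X)
    (hx : x.left.base (IsLocalRing.closedPoint E) = genericPoint X.left) :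
    ∃ ρ : X.left.functionField →ₐ[k] E, x = ptMap ρ ≫ gen := by
  obtain ⟨⟨p, φ⟩, hp⟩ := (Scheme.SpecToEquivOfField E X.left).symm.surjective x.left
  obtain rfl : p = genericPoint X.left := by
    rw [← hx, ← hp]
    show p = (Spec.map φ ≫ X.left.fromSpecResidueField p).base (IsLocalRing.closedPoint E)
    rw [Scheme.Hom.comp_apply, Scheme.fromSpecResidueField_apply]
  let r : X.left.presheaf.stalk (genericPoint X.left) ⟶ CommRingCat.of E :=
    X.left.residue (genericPoint X.left) ≫ φ
  have hr : x.left = Spec.map r ≫ gen.left := by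
    rw [← hp, hgen, Spec.map_comp, Category.assoc]; rfl
  have hk : CommRingCat.ofHom (algebraMap k X.left.functionField) ≫ r = CommRingCat.ofHom (algebraMap k E) := by
    apply Spec.map_injective
    have h1 := Over.w x
    rw [hr, Category.assoc, Over.w gen] at h1
    rw [Spec.map_comp]
    exact h1
  refine ⟨{ r.hom with commutes' := fun c => congr($(hk).hom c) }, Over.OverMorphism.ext ?_⟩
  rw [Over.comp_left, ptMap_left, hr]
  rfl

variable {G : Over (Spec (CommRingCat.of k))} [GrpObj G] (a : AlgGrp.Action G X)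
  {R : Type u} [CommRing R] [Algebra k R] [Algebra.Smooth k R] (v : pt k R ⟶ G) [IsIso v]
  {B : Type u} [CommRing B] [IsDomain B] [Algebra k B] (cB : X.left.functionField →ₐ[k] B) (w : R →ₐ[k] B)
  (univ : ∀ (E : Type u) [Field E] [Algebra k E] (ρ : X.left.functionField →ₐ[k] E) (g : R →ₐ[k] E),
    ∃ φ : B →ₐ[k] E, φ.comp cB = ρ ∧ φ.comp w = g)

omit hgen [IsDomain B] [Algebra.Smooth k R] [IsIso v] in
theorem comp_lift_pt {B' : Type u} [CommRing B'] [Algebra k B'] (φ : B →ₐ[k] B') :
    ptMap φ ≫ lift (ptMap w ≫ v) (ptMap cB ≫ gen) =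
      lift (ptMap (φ.comp w) ≫ v) (ptMap (φ.comp cB) ≫ gen) := by
  rw [comp_lift, Repr.ptMap_comp, Repr.ptMap_comp, Category.assoc, Category.assoc]

omit hgen in
include v in
theorem smooth_snd : Smooth (snd G X).left := by
  haveI : Smooth G.hom := by
    haveI : Smooth (pt k R).hom := by
      show Smooth (Spec.map (CommRingCat.ofHom (algebraMap k R)))
      rw [HasRingHomProperty.Spec_iff (P := @Smooth)]
      exact RingHom.smooth_algebraMap.mpr ‹_›
    rw [← Over.w (inv v)]
    infer_instance
  show Smooth (pullback.snd G.hom X.hom)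
  infer_instance

include univ in
/-- Every non-empty open of `G × X` contains the image of the generic point. -/
theorem mem_open (U : (G ⊗ X).left.Opens) (hU : (U : Set (G ⊗ X).left).Nonempty) :
    (lift (ptMap w ≫ v) (ptMap cB ≫ gen)).left.base (⊥ : PrimeSpectrum B) ∈ U := by
  haveI := smooth_snd (X := X) (G := G) v
  let q := lift (ptMap w ≫ v) (ptMap cB ≫ gen)
  have hξ : genericPoint X.left ∈ (snd G X).left '' (U : Set (G ⊗ X).left) := by
    refine ((genericPoint_spec X.left).mem_open_set_iff ((snd G X).left.isOpenMap _ U.2)).mpr ?_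
    simpa using hU.image (snd G X).left
  obtain ⟨z, hzU, hz⟩ := hξ
  let E := (G ⊗ X).left.residueField z
  letI : Algebra k E := (Spec.preimage ((G ⊗ X).left.fromSpecResidueField z ≫ (G ⊗ X).hom)).hom.toAlgebra
  let p : pt k E ⟶ G ⊗ X := Over.homMk ((G ⊗ X).left.fromSpecResidueField z) (by
    show _ = Spec.map (CommRingCat.ofHom (algebraMap k E))
    rw [RingHom.algebraMap_toAlgebra, CommRingCat.ofHom_hom, Spec.map_preimage])
  have hpt : p.left.base (IsLocalRing.closedPoint E) = z := Scheme.fromSpecResidueField_apply _ _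
  obtain ⟨ρ, hρ⟩ := exists_eq_gen gen hgen (p ≫ snd G X) (by
    rw [Over.comp_left, Scheme.Hom.comp_apply, hpt, hz])
  obtain ⟨g, hg⟩ := Repr.exists_ptMap ((p ≫ fst G X) ≫ inv v)
  obtain ⟨φ, hφ1, hφ2⟩ := univ E ρ g
  have hp : p = ptMap φ ≫ q := by
    rw [comp_lift_pt, hφ1, hφ2]
    apply CartesianMonoidalCategory.hom_ext
    · rw [lift_fst, ← hg, Category.assoc, IsIso.inv_hom_id, Category.comp_id]
    · rw [lift_snd, hρ]
  have h1 : z = q.left.base ((ptMap φ).left.base (IsLocalRing.closedPoint E)) := by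
    refine hpt.symm.trans ((congrArg (fun f : pt k E ⟶ G ⊗ X => f.left.base (IsLocalRing.closedPoint E)) hp).trans ?_)
    exact Scheme.Hom.comp_apply _ _ _
  have hspec : (⊥ : PrimeSpectrum B) ⤳ (ptMap φ).left.base (IsLocalRing.closedPoint E) :=
    (PrimeSpectrum.le_iff_specializes _ _).1 bot_le
  exact (hspec.map q.left.continuous).mem_open U.2 (h1 ▸ hzU)

variable (jB : B →ₐ[k] RatFunc X.left.functionField) (hjB : Function.Injective jB)

include univ hjB in
theorem exists_flow [IsSeparated X.hom] :
    ∃ σ : X.left.functionField →ₐ[k] RatFunc X.left.functionField,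
      (∀ (E : Type u) [Field E] [Algebra k E] (φ : RatFunc X.left.functionField →ₐ[k] E),
        ptMap (φ.comp σ) ≫ gen =
          lift (ptMap (φ.comp (jB.comp w)) ≫ v) (ptMap (φ.comp (jB.comp cB)) ≫ gen) ≫ a.act) ∧
      (σ = jB.comp cB → a.act = snd G X) := by
  let q := lift (ptMap w ≫ v) (ptMap cB ≫ gen)
  let M := RatFunc X.left.functionField
  have hbot : (ptMap jB).left.base (IsLocalRing.closedPoint M) = (⊥ : PrimeSpectrum B) := by
    apply PrimeSpectrum.ext
    show Ideal.comap jB.toRingHom (IsLocalRing.maximalIdeal M) = ⊥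
    rw [IsLocalRing.maximalIdeal_eq_bot, ← RingHom.ker_eq_comap_bot, ← RingHom.injective_iff_ker_eq_bot]
    exact hjB
  let P : pt k M ⟶ X := ptMap jB ≫ q ≫ a.act
  have hact : Function.Surjective a.act.left.base := by
    intro x
    refine ⟨(lift (1 : X ⟶ G) (𝟙 X)).left.base x, ?_⟩
    rw [← Scheme.Hom.comp_apply, ← Over.comp_left, GrothLib.DiagGrp.act_one]
    rfl
  have hP : P.left.base (IsLocalRing.closedPoint M) = genericPoint X.left := by
    apply (genericPoint_spec X.left).eq _ |>.symm
    rw [isGenericPoint_def, Set.eq_univ_iff_forall]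
    intro x
    rw [mem_closure_iff]
    intro o ho hxo
    refine ⟨_, ?_, rfl⟩
    obtain ⟨z, hz⟩ := hact x
    have hm := mem_open gen hgen v cB w univ (a.act.left ⁻¹ᵁ ⟨o, ho⟩) ⟨z, show a.act.left z ∈ o by rw [hz]; exact hxo⟩
    show (ptMap jB ≫ q ≫ a.act).left.base (IsLocalRing.closedPoint M) ∈ o
    rw [Over.comp_left, Scheme.Hom.comp_apply, hbot, Over.comp_left, Scheme.Hom.comp_apply]
    exact hm
  obtain ⟨σ, hσ⟩ := exists_eq_gen gen hgen P hP
  refine ⟨σ, fun E _ _ φ => ?_, fun hσc => ?_⟩
  · rw [Repr.ptMap_comp, Category.assoc, ← hσ]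
    show ptMap φ ≫ ptMap jB ≫ q ≫ a.act = _
    rw [← Category.assoc, ← Repr.ptMap_comp, ← Category.assoc, comp_lift_pt]
    rfl
  · haveI := smooth_snd (X := X) (G := G) v
    haveI : IsReduced (G ⊗ X).left := GrothLib.RedSmooth.isReduced_of_smooth (snd G X).left
    haveI : IsDominant (ptMap jB ≫ q).left := by
      refine ⟨fun z => mem_closure_iff.2 fun o ho hzo => ⟨_, ?_, ⟨IsLocalRing.closedPoint M, rfl⟩⟩⟩
      have hm := mem_open gen hgen v cB w univ ⟨o, ho⟩ ⟨z, hzo⟩
      rw [Over.comp_left, Scheme.Hom.comp_apply, hbot]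
      exact hm
    refine Over.OverMorphism.ext (ext_of_isDominant_of_isSeparated X.hom (by rw [Over.w, Over.w])
      (ptMap jB ≫ q).left ?_)
    have h2 : (ptMap jB ≫ q) ≫ a.act = (ptMap jB ≫ q) ≫ snd G X := by
      rw [Category.assoc, Category.assoc, lift_snd]
      show P = _
      rw [hσ, hσc, Repr.ptMap_comp, Category.assoc]
    exact congrArg Over.Hom.left h2

end GrothLib.RuledGa21
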