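import Mathlib.AlgebraicGeometry.AffineSpace
import Mathlib.AlgebraicGeometry.FunctionField
import Mathlib.AlgebraicGeometry.Morphisms.FiniteType
import Mathlib.RingTheory.Localization.Away.Basic
import Mathlib.RingTheory.AlgebraicIndependent.Transcendental
import Mathlib.FieldTheory.IntermediateField.Adjoin.Basic
import Mathlib.AlgebraicGeometry.Properties

/-!
# A rational function field gives a birational product with the line
-/

set_option autoImplicit false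
set_option linter.style.haveILetI false
set_option backward.isDefEq.respectTransparency false

universe u

open CategoryTheory AlgebraicGeometry

noncomputable section

namespace GrothLib.RuledGa21

section Away

variable {k : Type u} [Field k] {L : Type u} [Field L] [Algebra k L]
  {A : Type u} [CommRing A] [Algebra k A] (φ : A →ₐ[k] L) (hφ : Function.Injective φ)

/-- The localisation of a subring inside the field. -/
def awayHom {h : A} (hh : φ h ≠ 0) : Localization.Away h →ₐ[k] L :=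
  IsLocalization.liftAlgHom (M := Submonoid.powers h) (f := φ) fun y => by
    obtain ⟨-, N, rfl⟩ := y
    exact isUnit_iff_ne_zero.2 (by rw [map_pow]; exact pow_ne_zero _ hh)

theorem awayHom_algebraMap {h : A} (hh : φ h ≠ 0) (x : A) :
    awayHom φ hh (algebraMap A (Localization.Away h) x) = φ x :=
  IsLocalization.lift_eq _ x

include hφ in
theorem awayHom_injective {h : A} (hh : φ h ≠ 0) : Function.Injective (awayHom φ hh) := by
  rw [injective_iff_map_eq_zero]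
  intro z hz
  obtain ⟨⟨x, ⟨-, N, rfl⟩⟩, hx⟩ := IsLocalization.surj (Submonoid.powers h) z
  have h1 := congrArg (awayHom φ hh) hx
  rw [map_mul, hz, zero_mul, awayHom_algebraMap] at h1
  have hx0 : x = 0 := hφ (h1.symm.trans (map_zero φ).symm)
  simp only at hx
  rw [hx0, map_zero] at hx
  exact (IsLocalization.map_units (Localization.Away h) (⟨h ^ N, N, rfl⟩ : Submonoid.powers h)).mul_left_eq_zero.1 hx

theorem mem_range_awayHom {h : A} (hh : φ h ≠ 0) (y : L) :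
    y ∈ (awayHom φ hh).range ↔ ∃ (x : A) (N : ℕ), y * φ h ^ N = φ x := by
  constructor
  · rintro ⟨z, rfl⟩
    obtain ⟨⟨x, ⟨-, N, rfl⟩⟩, hx⟩ := IsLocalization.surj (Submonoid.powers h) z
    refine ⟨x, N, ?_⟩
    have h1 := congrArg (awayHom φ hh) hx
    rwa [map_mul, awayHom_algebraMap, awayHom_algebraMap, map_pow] at h1
  · rintro ⟨x, N, hx⟩
    refine ⟨IsLocalization.mk' _ x (⟨h ^ N, N, rfl⟩ : Submonoid.powers h), ?_⟩
    apply mul_right_cancel₀ (pow_ne_zero N hh)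
    rw [hx, ← map_pow, ← awayHom_algebraMap φ hh (h ^ N)]
    show awayHom φ hh _ * awayHom φ hh _ = _
    rw [← map_mul, IsLocalization.mk'_spec]
    exact awayHom_algebraMap φ hh x

end Away

section Two

variable {k : Type u} [Field k] {L : Type u} [Field L] [Algebra k L]
  {A₁ : Type u} [CommRing A₁] [Algebra k A₁] (φ₁ : A₁ →ₐ[k] L) (hφ₁ : Function.Injective φ₁)
  {A₂ : Type u} [CommRing A₂] [Algebra k A₂] (φ₂ : A₂ →ₐ[k] L) (hφ₂ : Function.Injective φ₂)

theorem range_le (G₂ : Set A₂) (hG₂ : Algebra.adjoin k G₂ = ⊤) {d₁ : A₁} (hd₁ : φ₁ d₁ ≠ 0)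
    (h : ∀ x ∈ G₂, ∃ a : A₁, φ₂ x * φ₁ d₁ = φ₁ a) : φ₂.range ≤ (awayHom φ₁ hd₁).range := by
  rw [← Algebra.map_top, ← hG₂, AlgHom.map_adjoin, Algebra.adjoin_le_iff]
  rintro _ ⟨x, hx, rfl⟩
  obtain ⟨a, ha⟩ := h x hx
  exact (mem_range_awayHom φ₁ hd₁ _).2 ⟨a, 1, by rw [pow_one]; exact ha⟩

include hφ₁ hφ₂ in
theorem exists_away_algEquiv (G₁ : Set A₁) (hG₁ : Algebra.adjoin k G₁ = ⊤) (G₂ : Set A₂)
    (hG₂ : Algebra.adjoin k G₂ = ⊤) (d₁ : A₁) (hd₁ : φ₁ d₁ ≠ 0) (d₂ : A₂) (hd₂ : φ₂ d₂ ≠ 0)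
    (h₁ : ∀ x ∈ G₁, ∃ a : A₂, φ₁ x * φ₂ d₂ = φ₂ a) (h₂ : ∀ x ∈ G₂, ∃ a : A₁, φ₂ x * φ₁ d₁ = φ₁ a) :
    ∃ (e₁ : A₁) (e₂ : A₂) (_ : φ₁ e₁ ≠ 0) (_ : φ₂ e₂ ≠ 0),
      Nonempty (Localization.Away e₁ ≃ₐ[k] Localization.Away e₂) := by
  obtain ⟨a, N, ha⟩ := (mem_range_awayHom φ₁ hd₁ (φ₂ d₂)).1 (range_le φ₁ φ₂ G₂ hG₂ hd₁ h₂ ⟨d₂, rfl⟩)
  obtain ⟨b, M, hb⟩ := (mem_range_awayHom φ₂ hd₂ (φ₁ d₁)).1 (range_le φ₂ φ₁ G₁ hG₁ hd₂ h₁ ⟨d₁, rfl⟩)
  have he₁ : φ₁ (d₁ * a) ≠ 0 := by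
    rw [map_mul, ← ha]; exact mul_ne_zero hd₁ (mul_ne_zero hd₂ (pow_ne_zero _ hd₁))
  have he₂ : φ₂ (d₂ * b) ≠ 0 := by
    rw [map_mul, ← hb]; exact mul_ne_zero hd₂ (mul_ne_zero hd₁ (pow_ne_zero _ hd₂))
  let S₁ := (awayHom φ₁ he₁).range
  let S₂ := (awayHom φ₂ he₂).range
  have i₁ : φ₁.range ≤ S₂ := range_le φ₂ φ₁ G₁ hG₁ he₂ fun x hx => by
    obtain ⟨y, hy⟩ := h₁ x hx
    exact ⟨y * b, by rw [map_mul, map_mul, ← hy, mul_assoc]⟩
  have i₂ : φ₂.range ≤ S₁ := range_le φ₁ φ₂ G₂ hG₂ he₁ fun x hx => by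
    obtain ⟨y, hy⟩ := h₂ x hx
    exact ⟨y * a, by rw [map_mul, map_mul, ← hy, mul_assoc]⟩
  have j₁ : (φ₁ d₁)⁻¹ ∈ S₁ ∧ (φ₂ d₂)⁻¹ ∈ S₁ := by
    constructor
    · exact (mem_range_awayHom φ₁ he₁ _).2 ⟨a, 1, by rw [pow_one, map_mul, ← mul_assoc, inv_mul_cancel₀ hd₁, one_mul]⟩
    · refine (mem_range_awayHom φ₁ he₁ _).2 ⟨d₁ * d₁ ^ N, 1, ?_⟩
      rw [pow_one, map_mul, map_mul, map_pow, ← ha]
      field_simp
  have j₂ : (φ₂ d₂)⁻¹ ∈ S₂ ∧ (φ₁ d₁)⁻¹ ∈ S₂ := by
    constructor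
    · exact (mem_range_awayHom φ₂ he₂ _).2 ⟨b, 1, by rw [pow_one, map_mul, ← mul_assoc, inv_mul_cancel₀ hd₂, one_mul]⟩
    · refine (mem_range_awayHom φ₂ he₂ _).2 ⟨d₂ * d₂ ^ M, 1, ?_⟩
      rw [pow_one, map_mul, map_mul, map_pow, ← hb]
      field_simp
  have hS : S₁ = S₂ := by
    apply le_antisymm
    · intro y hy
      obtain ⟨x, n, hx⟩ := (mem_range_awayHom φ₁ he₁ y).1 hy
      have : y = φ₁ x * ((φ₁ d₁)⁻¹ ^ (N + 1) * (φ₂ d₂)⁻¹) ^ n := by
        have he : φ₁ (d₁ * a) = φ₁ d₁ ^ (N + 1) * φ₂ d₂ := by rw [map_mul, ← ha]; ring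
        rw [← hx, he, mul_assoc, ← mul_pow]
        field_simp
        rw [one_div, inv_pow, mul_inv_cancel₀ (pow_ne_zero _ hd₁), one_pow, _root_.mul_one]
      rw [this]
      exact mul_mem (i₁ ⟨x, rfl⟩) (pow_mem (mul_mem (pow_mem j₂.2 _) j₂.1) _)
    · intro y hy
      obtain ⟨x, n, hx⟩ := (mem_range_awayHom φ₂ he₂ y).1 hy
      have : y = φ₂ x * ((φ₂ d₂)⁻¹ ^ (M + 1) * (φ₁ d₁)⁻¹) ^ n := by
        have he : φ₂ (d₂ * b) = φ₂ d₂ ^ (M + 1) * φ₁ d₁ := by rw [map_mul, ← hb]; ring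
        rw [← hx, he, mul_assoc, ← mul_pow]
        field_simp
        rw [one_div, inv_pow, mul_inv_cancel₀ (pow_ne_zero _ hd₂), one_pow, _root_.mul_one]
      rw [this]
      exact mul_mem (i₂ ⟨x, rfl⟩) (pow_mem (mul_mem (pow_mem j₁.2 _) j₁.1) _)
  exact ⟨_, _, he₁, he₂, ⟨(AlgEquiv.ofInjective _ (awayHom_injective φ₁ hφ₁ he₁)).trans
    ((Subalgebra.equivOfEq _ _ hS).trans (AlgEquiv.ofInjective _ (awayHom_injective φ₂ hφ₂ he₂)).symm)⟩⟩

end Two

theorem exists_birational_line {k : Type u} [Field k] {X : Over (Spec (CommRingCat.of k))}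
    [IsIntegral X.left] [LocallyOfFiniteType X.hom] [Algebra k X.left.functionField]
    (halg : X.left.fromSpecStalk (genericPoint X.left) ≫ X.hom =
      Spec.map (CommRingCat.ofHom (algebraMap k X.left.functionField)))
    (F : Subfield X.left.functionField) (hkF : ∀ c : k, algebraMap k X.left.functionField c ∈ F)
    (u : X.left.functionField) (htr : Transcendental F u) (hgen : IntermediateField.adjoin F {u} = ⊤) :
    ∃ (Y : Over (Spec (CommRingCat.of k))) (_ : IsIntegral Y.left) (_ : LocallyOfFiniteType Y.hom)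
      (U : X.left.Opens) (V : (𝔸(ULift.{u} (Fin 1); Y.left)).Opens), (U : Set X.left).Nonempty ∧
      Nonempty (Over.mk (U.ι ≫ X.hom) ≅
        Over.mk (V.ι ≫ (𝔸(ULift.{u} (Fin 1); Y.left) ↘ Y.left) ≫ Y.hom)) := by
  classical
  let L := X.left.functionField
  obtain ⟨W, hW, hξW, -⟩ := exists_isAffineOpen_mem_and_subset
    (U := (⊤ : X.left.Opens)) (x := genericPoint X.left) trivial
  haveI : Nonempty W := ⟨⟨_, hξW⟩⟩
  haveI := functionField_isFractionRing_of_isAffineOpen X.left W hW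
  let R := Γ(X.left, W)
  let s : CommRingCat.of k ⟶ R := Spec.preimage (hW.fromSpec ≫ X.hom)
  letI : Algebra k R := s.hom.toAlgebra
  haveI : Algebra.FiniteType k R := by
    haveI : LocallyOfFiniteType (Spec.map s) := by rw [Spec.map_preimage]; infer_instance
    exact (HasRingHomProperty.Spec_iff (P := @LocallyOfFiniteType)).1 this
  let φ₁ : R →ₐ[k] L :=
    { (X.left.germToFunctionField W).hom with
      commutes' := fun c => by
        have h1 : s ≫ X.left.germToFunctionField W = CommRingCat.ofHom (algebraMap k L) := by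
          apply Spec.map_injective
          rw [Spec.map_comp, Spec.map_preimage, ← halg, ← hW.fromSpecStalk_eq_fromSpecStalk hξW,
            IsAffineOpen.fromSpecStalk, Category.assoc]
        exact congr($(h1).hom c) }
  have hφ₁ : Function.Injective φ₁ := X.left.germToFunctionField_injective W
  obtain ⟨G₁, hG₁⟩ := Algebra.FiniteType.out (R := k) (A := R)
  have hfrac : ∀ x : L, ∃ P Q : Polynomial F, Polynomial.aeval u Q ≠ 0 ∧
      x * Polynomial.aeval u Q = Polynomial.aeval u P := by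
    intro x
    obtain ⟨P, Q, hPQ⟩ := (IntermediateField.mem_adjoin_simple_iff F x).1 (hgen ▸ IntermediateField.mem_top)
    by_cases hQ : Polynomial.aeval u Q = 0
    · exact ⟨0, 1, by simp, by rw [hPQ, hQ, div_zero, zero_mul, map_zero]⟩
    · exact ⟨P, Q, hQ, by rw [hPQ, div_mul_cancel₀ _ hQ]⟩
  choose P Q hQ hPQ using fun r : G₁ => hfrac (φ₁ r.1)
  let C : Finset L := (Finset.univ : Finset G₁).biUnion fun r =>
    ((P r).support.image fun i => (((P r).coeff i : F) : L)) ∪ ((Q r).support.image fun i => (((Q r).coeff i : F) : L))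
  let B : Subalgebra k L := Algebra.adjoin k (C : Set L)
  have hBF : ∀ b ∈ B, b ∈ F := by
    intro b hb
    induction hb using Algebra.adjoin_induction with
    | mem x hx =>
      obtain ⟨r, -, hr⟩ := Finset.mem_biUnion.1 hx
      rcases Finset.mem_union.1 hr with h | h <;>
      · obtain ⟨i, -, rfl⟩ := Finset.mem_image.1 h
        exact SetLike.coe_mem _
    | algebraMap c => exact hkF c
    | add x y _ _ hx hy => exact add_mem hx hy
    | mul x y _ _ hx hy => exact mul_mem hx hy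
  haveI : Algebra.FiniteType k B := B.fg_iff_finiteType.1 ⟨C, rfl⟩
  let T := MvPolynomial (ULift.{u} (Fin 1)) B
  let φ₂ : T →ₐ[k] L := (MvPolynomial.aeval (R := B) fun _ => u).restrictScalars k
  let inclF : B →+* F := B.val.toRingHom.codRestrict F fun b => hBF b.1 b.2
  have hinclF : Function.Injective inclF := fun x y h => Subtype.ext (congrArg (fun z : F => (z : L)) h)
  have hφ₂ : Function.Injective φ₂ := by
    have hai : AlgebraicIndependent F (fun _ : ULift.{u} (Fin 1) => u) :=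
      algebraicIndependent_unique_type_iff.2 htr
    have : ∀ p : T, φ₂ p = MvPolynomial.aeval (R := F) (fun _ => u) (MvPolynomial.map inclF p) := by
      intro p
      rw [MvPolynomial.aeval_def, MvPolynomial.eval₂_map]
      rfl
    intro p p' h
    rw [this, this] at h
    exact MvPolynomial.map_injective inclF hinclF (hai h)
  have hPB : ∀ (Rp : Polynomial F), (∀ i, ((Rp.coeff i : F) : L) ∈ B) → Polynomial.aeval u Rp ∈ φ₂.range := by
    intro Rp hRp
    rw [Polynomial.aeval_eq_sum_range]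
    refine sum_mem fun i _ => ?_
    show ((Rp.coeff i : F) : L) * u ^ i ∈ φ₂.range
    exact mul_mem (⟨MvPolynomial.C ⟨_, hRp i⟩, MvPolynomial.aeval_C _ _⟩ : ((Rp.coeff i : F) : L) ∈ φ₂.range)
      (pow_mem (⟨MvPolynomial.X ⟨0⟩, MvPolynomial.aeval_X _ _⟩ : u ∈ φ₂.range) i)
  have hcoef : ∀ r : G₁, (∀ i, (((P r).coeff i : F) : L) ∈ B) ∧ (∀ i, (((Q r).coeff i : F) : L) ∈ B) := by
    intro r
    constructor <;> intro i
    · by_cases h : (P r).coeff i = 0
      · rw [h]; exact zero_mem B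
      · exact Algebra.subset_adjoin (Finset.mem_biUnion.2 ⟨r, Finset.mem_univ _,
          Finset.mem_union_left _ (Finset.mem_image.2 ⟨i, Polynomial.mem_support_iff.2 h, rfl⟩)⟩)
    · by_cases h : (Q r).coeff i = 0
      · rw [h]; exact zero_mem B
      · exact Algebra.subset_adjoin (Finset.mem_biUnion.2 ⟨r, Finset.mem_univ _,
          Finset.mem_union_right _ (Finset.mem_image.2 ⟨i, Polynomial.mem_support_iff.2 h, rfl⟩)⟩)
  have hQr : ∀ r, ∃ q : T, φ₂ q = Polynomial.aeval u (Q r) := fun r => hPB _ (hcoef r).2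
  choose q hq using hQr
  let d₂ : T := ∏ r, q r
  have hd₂ : φ₂ d₂ ≠ 0 := by
    rw [map_prod]; exact Finset.prod_ne_zero_iff.2 fun r _ => by rw [hq]; exact hQ r
  have h₁ : ∀ x ∈ (G₁ : Set R), ∃ t : T, φ₁ x * φ₂ d₂ = φ₂ t := by
    intro x hx
    obtain ⟨p, hp⟩ := hPB _ (hcoef ⟨x, hx⟩).1
    refine ⟨p * ∏ r ∈ Finset.univ.erase ⟨x, hx⟩, q r, ?_⟩
    have hp' : φ₂ p = φ₁ x * Polynomial.aeval u (Q ⟨x, hx⟩) := hp.trans (hPQ ⟨x, hx⟩).symm
    rw [map_mul, hp', ← hq, mul_assoc, ← map_mul, Finset.mul_prod_erase _ _ (Finset.mem_univ _)]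
  obtain ⟨G₂, hG₂⟩ := Algebra.FiniteType.out (R := k) (A := T)
  obtain ⟨e, he⟩ := IsLocalization.exist_integer_multiples_of_finset (nonZeroDivisors R) (G₂.image φ₂)
  have hd₁ : φ₁ e ≠ 0 := fun h => nonZeroDivisors.ne_zero e.2 (hφ₁ (h.trans (map_zero φ₁).symm))
  have h₂ : ∀ x ∈ (G₂ : Set T), ∃ a : R, φ₂ x * φ₁ e = φ₁ a := by
    intro x hx
    obtain ⟨a, ha⟩ := he _ (Finset.mem_image_of_mem φ₂ hx)
    refine ⟨a, ?_⟩
    rw [Algebra.smul_def] at ha
    rw [mul_comm]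
    exact ha.symm
  obtain ⟨e₁, e₂, he₁, he₂, ⟨ε⟩⟩ :=
    exists_away_algEquiv φ₁ hφ₁ φ₂ hφ₂ _ hG₁ _ hG₂ _ hd₁ _ hd₂ h₁ h₂
  -- the model
  let Y : Over (Spec (CommRingCat.of k)) := Over.mk (Spec.map (CommRingCat.ofHom (algebraMap k B)))
  haveI : IsIntegral Y.left := inferInstanceAs (IsIntegral (Spec (CommRingCat.of B)))
  haveI : LocallyOfFiniteType Y.hom :=
    (HasRingHomProperty.Spec_iff (P := @LocallyOfFiniteType)).2 (RingHom.finiteType_algebraMap.2 ‹_›)
  let j₁ : Spec (CommRingCat.of (Localization.Away e₁)) ⟶ X.left :=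
    Spec.map (CommRingCat.ofHom (algebraMap R (Localization.Away e₁))) ≫ hW.fromSpec
  let j₂ : Spec (CommRingCat.of (Localization.Away e₂)) ⟶ 𝔸(ULift.{u} (Fin 1); Y.left) :=
    Spec.map (CommRingCat.ofHom (algebraMap T (Localization.Away e₂))) ≫
      (AffineSpace.SpecIso (ULift.{u} (Fin 1)) (CommRingCat.of B)).inv
  haveI : IsOpenImmersion (Spec.map (CommRingCat.ofHom (algebraMap R (Localization.Away e₁)))) :=
    IsOpenImmersion.of_isLocalization e₁
  haveI : IsOpenImmersion (Spec.map (CommRingCat.ofHom (algebraMap T (Localization.Away e₂)))) :=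
    IsOpenImmersion.of_isLocalization e₂
  refine ⟨Y, inferInstance, inferInstance, j₁.opensRange, j₂.opensRange, ?_, ⟨?_⟩⟩
  · haveI : Nontrivial (Localization.Away e₁) := (awayHom φ₁ he₁).toRingHom.domain_nontrivial
    exact Set.range_nonempty _
  · refine Over.isoMk (j₁.isoOpensRange.symm ≪≫
      Scheme.Spec.mapIso ε.symm.toRingEquiv.toCommRingCatIso.op ≪≫ j₂.isoOpensRange) ?_
    show (j₁.isoOpensRange.inv ≫ Spec.map _ ≫ j₂.isoOpensRange.hom) ≫
      j₂.opensRange.ι ≫ (𝔸(ULift.{u} (Fin 1); Y.left) ↘ Y.left) ≫ Y.hom = j₁.opensRange.ι ≫ X.hom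
    rw [Category.assoc, Category.assoc, Scheme.Hom.isoOpensRange_hom_ι_assoc,
      ← Scheme.Hom.isoOpensRange_inv_comp j₁]
    simp only [Category.assoc]
    congr 1
    show _ = Spec.map (CommRingCat.ofHom (algebraMap R (Localization.Away e₁))) ≫ hW.fromSpec ≫ X.hom
    rw [← Spec.map_preimage (hW.fromSpec ≫ X.hom)]
    show Spec.map _ ≫ Spec.map _ ≫ (AffineSpace.SpecIso _ _).inv ≫ (𝔸(ULift.{u} (Fin 1); Spec (CommRingCat.of B)) ↘ _) ≫
      Spec.map _ = Spec.map _ ≫ Spec.map s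
    rw [AffineSpace.SpecIso_inv_over_assoc, ← Spec.map_comp, ← Spec.map_comp, ← Spec.map_comp, ← Spec.map_comp]
    congr 1
    ext c
    show ε.symm (algebraMap T (Localization.Away e₂) (MvPolynomial.C (algebraMap k B c))) =
      algebraMap R (Localization.Away e₁) (algebraMap k R c)
    rw [← IsScalarTower.algebraMap_apply k R (Localization.Away e₁),
      show MvPolynomial.C (algebraMap k B c) = algebraMap k T c from rfl,
      ← IsScalarTower.algebraMap_apply k T (Localization.Away e₂)]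
    exact ε.symm.commutes c

end GrothLib.RuledGa21
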