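import Groth.Agent.RuledGa21.Field
import Groth.Agent.RuledGa21.Flow
import Groth.Agent.RuledGa21.Model
import Groth.Agent.Lib.FixPt13.GaGm
import Groth.Agent.Lib.RedPts.Ga
import Groth.Agent.Lib.Repr.GmPts

/-!
# A non-trivial action of the additive or multiplicative group makes a variety ruled
-/

set_option autoImplicit false
set_option linter.style.haveILetI false
set_option backward.isDefEq.respectTransparency false

universe u

open CategoryTheory CategoryTheory.Limits MonoidalCategory CartesianMonoidalCategory MonObj GrpObj AlgebraicGeometry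
open VecGrp

noncomputable section

namespace GrothLib.RuledGa21

attribute [local instance 2000] Algebra.toModule
attribute [-instance] ULift.module

section Law

variable {L : Type u} [Field L]

theorem addLaw_injective : Function.Injective (addLaw (L := L)) :=
  (Polynomial.taylor_injective _).comp (Polynomial.map_injective _ RatFunc.C_injective)

theorem mulLaw_injective : Function.Injective (mulLaw (L := L)) := by
  intro P Q h
  ext j
  have h1 := congrArg (fun z : Polynomial (RatFunc L) => z.coeff j) h
  simp only [coeff_mulLaw] at h1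
  exact RatFunc.C_injective (mul_right_cancel₀ (pow_ne_zero _ RatFunc.X_ne_zero) h1)

/-- A hom of polynomial rings extended to the rational functions. -/
def extRF {M : Type u} [Field M] (ψ : Polynomial L →+* Polynomial M) (hψ : Function.Injective ψ) :
    RatFunc L →+* RatFunc M :=
  IsFractionRing.lift (g := (algebraMap (Polynomial M) (RatFunc M)).comp ψ)
    ((RatFunc.algebraMap_injective M).comp hψ)

theorem extRF_algebraMap {M : Type u} [Field M] (ψ : Polynomial L →+* Polynomial M) (hψ : Function.Injective ψ)
    (P : Polynomial L) : extRF ψ hψ (algebraMap _ _ P) = algebraMap _ _ (ψ P) :=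
  IsFractionRing.lift_algebraMap (g := (algebraMap (Polynomial M) (RatFunc M)).comp ψ)
    ((RatFunc.algebraMap_injective M).comp hψ) P

theorem law_of_eq (σ : L →+* RatFunc L) (ψ : Polynomial L →+* Polynomial (RatFunc L)) (hψ : Function.Injective ψ)
    (h : ∀ f, extRF (Polynomial.mapRingHom σ) (Polynomial.map_injective σ σ.injective) (σ f) = extRF ψ hψ (σ f)) :
    Law ψ σ := by
  intro f
  have h1 := h f
  rw [← RatFunc.num_div_denom (σ f), map_div₀, map_div₀, extRF_algebraMap, extRF_algebraMap,
    extRF_algebraMap, extRF_algebraMap, div_eq_div_iff, ← map_mul, ← map_mul] at h1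
  · exact RatFunc.algebraMap_injective _ h1
  · exact RatFunc.algebraMap_ne_zero
      ((Polynomial.map_ne_zero_iff σ.injective).2 (RatFunc.denom_ne_zero _))
  · exact RatFunc.algebraMap_ne_zero ((map_ne_zero_iff ψ hψ).2 (RatFunc.denom_ne_zero _))

end Law

variable {k : Type u} [Field k] {G X : Over (Spec (CommRingCat.of k))} [GrpObj G]
  [IsIntegral X.left] [Algebra k X.left.functionField]


/-- Extension as algebra homomorphisms. -/
def extAlg (ψ : Polynomial (↥X.left.functionField) →+* Polynomial (RatFunc (↥X.left.functionField))) (hψ : Function.Injective ψ)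
    (hk : ∀ c : k, ψ (algebraMap k (Polynomial (↥X.left.functionField)) c) = algebraMap k (Polynomial (RatFunc (↥X.left.functionField))) c) : (RatFunc (↥X.left.functionField)) →ₐ[k] RatFunc (RatFunc (↥X.left.functionField)) :=
  { extRF ψ hψ with
    commutes' := fun c => by
      show extRF ψ hψ (algebraMap k (RatFunc (↥X.left.functionField)) c) = _
      rw [IsScalarTower.algebraMap_apply k (Polynomial (↥X.left.functionField)) (RatFunc (↥X.left.functionField)), extRF_algebraMap, hk,
        ← IsScalarTower.algebraMap_apply] }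

/-- The constants. -/
def constHom (K : Type u) [Field K] [Algebra k K] : K →ₐ[k] RatFunc K :=
  (IsScalarTower.toAlgHom k (Polynomial K) (RatFunc K)).comp (Polynomial.CAlgHom (R := k))

theorem constHom_apply (K : Type u) [Field K] [Algebra k K] (x : K) :
    constHom (k := k) K x = algebraMap (Polynomial K) (RatFunc K) (Polynomial.C x) := rfl

theorem extAlg_const (ψ : Polynomial (↥X.left.functionField) →+* Polynomial (RatFunc (↥X.left.functionField))) (hψ : Function.Injective ψ)
    (hk : ∀ c : k, ψ (algebraMap k (Polynomial (↥X.left.functionField)) c) = algebraMap k (Polynomial (RatFunc (↥X.left.functionField))) c) (x : (↥X.left.functionField)) :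
    extAlg ψ hψ hk (constHom (k := k) (↥X.left.functionField) x) = algebraMap _ _ (ψ (Polynomial.C x)) :=
  extRF_algebraMap ψ hψ _

theorem extAlg_X (ψ : Polynomial (↥X.left.functionField) →+* Polynomial (RatFunc (↥X.left.functionField))) (hψ : Function.Injective ψ)
    (hk : ∀ c : k, ψ (algebraMap k (Polynomial (↥X.left.functionField)) c) = algebraMap k (Polynomial (RatFunc (↥X.left.functionField))) c) :
    extAlg ψ hψ hk RatFunc.X = algebraMap _ _ (ψ Polynomial.X) := by
  rw [← RatFunc.algebraMap_X]
  exact extRF_algebraMap ψ hψ _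

variable [LocallyOfFiniteType X.hom] [IsSeparated X.hom]
  (gen : pt k X.left.functionField ⟶ X) (hgen : gen.left = X.left.fromSpecStalk (genericPoint X.left))
  (a : AlgGrp.Action G X) (ha : a.act ≠ snd G X)
  {R : Type u} [CommRing R] [Algebra k R] [Algebra.Smooth k R] (v : pt k R ⟶ G) [IsIso v] (T : R)
  {B : Type u} [CommRing B] [IsDomain B] [Algebra k B] (cB : X.left.functionField →ₐ[k] B) (w : R →ₐ[k] B)
  (univ : ∀ (E : Type u) [Field E] [Algebra k E] (ρ : X.left.functionField →ₐ[k] E) (g : R →ₐ[k] E),
    ∃ φ : B →ₐ[k] E, φ.comp cB = ρ ∧ φ.comp w = g)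
  (jB : B →ₐ[k] RatFunc X.left.functionField) (hjB : Function.Injective jB)
  (hjc : ∀ x, jB (cB x) = constHom (k := k) X.left.functionField x) (hjw : jB (w T) = RatFunc.X)
  (ψ : Polynomial X.left.functionField →+* Polynomial (RatFunc X.left.functionField)) (hψ : Function.Injective ψ)
  (hψC : ∀ x, ψ (Polynomial.C x) = Polynomial.C (constHom (k := k) X.left.functionField x))
  (hmul : ∀ (g g' g'' : R →ₐ[k] RatFunc (RatFunc X.left.functionField)),
    g T = RatFunc.X → g' T = algebraMap _ _ (Polynomial.C (RatFunc.X : RatFunc X.left.functionField)) →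
    g'' T = algebraMap _ _ (ψ Polynomial.X) →
    (ptMap g ≫ v) * (ptMap g' ≫ v) = ptMap g'' ≫ v)

include hgen ha univ hjB hjc hjw hψ hψC hmul in
theorem exists_law : ∃ σ : X.left.functionField →+* RatFunc X.left.functionField,
    Law ψ σ ∧ (∀ c : k, σ (algebraMap k _ c) = RatFunc.C (algebraMap k _ c)) ∧ ∃ f, σ f ≠ RatFunc.C f := by
  obtain ⟨σ, hσ, htriv⟩ := exists_flow gen hgen a v cB w univ jB hjB
  have hkL : ∀ c : k, constHom (k := k) (↥X.left.functionField) (algebraMap k (↥X.left.functionField) c) = algebraMap k (RatFunc (↥X.left.functionField)) c := fun c =>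
    (constHom (k := k) (↥X.left.functionField)).commutes c
  refine ⟨σ.toRingHom, ?_, fun c => ?_, ?_⟩
  swap
  · show σ (algebraMap k (↥X.left.functionField) c) = _
    rw [σ.commutes, ← hkL, constHom_apply, RatFunc.algebraMap_C]
  swap
  · by_contra hcon
    rw [not_exists] at hcon
    refine ha (htriv (AlgHom.ext fun f => ?_))
    have := not_not.1 (hcon f)
    show σ f = jB (cB f)
    rw [hjc, constHom_apply, RatFunc.algebraMap_C]
    exact this
  have hkψ : ∀ c : k, ψ (algebraMap k (Polynomial (↥X.left.functionField)) c) = algebraMap k (Polynomial (RatFunc (↥X.left.functionField))) c := fun c => by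
    rw [IsScalarTower.algebraMap_apply k (↥X.left.functionField) (Polynomial (↥X.left.functionField)), Polynomial.algebraMap_eq, hψC, hkL,
      ← Polynomial.algebraMap_eq, ← IsScalarTower.algebraMap_apply]
  have hinjσ : Function.Injective (Polynomial.mapRingHom σ.toRingHom) :=
    Polynomial.map_injective _ σ.toRingHom.injective
  have hkσ : ∀ c : k, Polynomial.mapRingHom σ.toRingHom (algebraMap k (Polynomial (↥X.left.functionField)) c) =
      algebraMap k (Polynomial (RatFunc (↥X.left.functionField))) c := fun c => by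
    rw [IsScalarTower.algebraMap_apply k (↥X.left.functionField) (Polynomial (↥X.left.functionField)), Polynomial.algebraMap_eq, Polynomial.coe_mapRingHom,
      Polynomial.map_C]
    show Polynomial.C (σ (algebraMap k (↥X.left.functionField) c)) = _
    rw [σ.commutes, ← Polynomial.algebraMap_eq, ← IsScalarTower.algebraMap_apply]
  let Φ := extAlg (Polynomial.mapRingHom σ.toRingHom) hinjσ hkσ
  let Ψ := extAlg ψ hψ hkψ
  let Cs : (RatFunc (↥X.left.functionField)) →ₐ[k] RatFunc (RatFunc (↥X.left.functionField)) := constHom (k := k) (RatFunc (↥X.left.functionField))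
  let jw : R →ₐ[k] (RatFunc (↥X.left.functionField)) := jB.comp w
  have e1 : Φ.comp (jB.comp cB) = Cs.comp σ := AlgHom.ext fun x => by
    show Φ (jB (cB x)) = Cs (σ x)
    rw [hjc, extAlg_const, Polynomial.coe_mapRingHom, Polynomial.map_C]
    rfl
  have e2 : Ψ.comp (jB.comp cB) = Cs.comp (jB.comp cB) := AlgHom.ext fun x => by
    show Ψ (jB (cB x)) = Cs (jB (cB x))
    rw [hjc, extAlg_const, hψC]
    rfl
  have e3 : (ptMap (Φ.comp jw) ≫ v) * (ptMap (Cs.comp jw) ≫ v) = ptMap (Ψ.comp jw) ≫ v := by
    refine hmul _ _ _ ?_ ?_ ?_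
    · show Φ (jB (w T)) = _
      rw [hjw, extAlg_X, Polynomial.coe_mapRingHom, Polynomial.map_X, RatFunc.algebraMap_X]
    · show Cs (jB (w T)) = _
      rw [hjw]; rfl
    · show Ψ (jB (w T)) = _
      rw [hjw, extAlg_X]
  have key : Φ.comp σ = Ψ.comp σ := by
    apply gen_injective gen hgen
    rw [hσ _ Φ, hσ _ Ψ, e1, e2, hσ _ Cs, ← GrothLib.DiagGrp.act_mul]
    exact congrArg (fun g => lift g (ptMap (Cs.comp (jB.comp cB)) ≫ gen) ≫ a.act) e3
  exact law_of_eq _ ψ hψ fun f => AlgHom.congr_fun key f

omit v in
theorem laurent_algHom_ext {E : Type u} [CommRing E] [Algebra k E] {f g : LaurentPolynomial k →ₐ[k] E}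
    (h : f (LaurentPolynomial.T 1) = g (LaurentPolynomial.T 1)) : f = g := by
  have hu : Units.map (f : LaurentPolynomial k →* E) (Repr.unitT k) =
      Units.map (g : LaurentPolynomial k →* E) (Repr.unitT k) := Units.ext h
  have hT : ∀ n : ℤ, (((Repr.unitT k) ^ n : (LaurentPolynomial k)ˣ) : LaurentPolynomial k) = LaurentPolynomial.T n :=
    fun n => by
    induction n using Int.induction_on with
    | zero => simp
    | succ m ih => rw [zpow_add, Units.val_mul, ih, zpow_one, Repr.unitT, IsUnit.unit_spec, ← LaurentPolynomial.T_add]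
    | pred m ih =>
      rw [zpow_sub, Units.val_mul, ih, zpow_one]
      refine (Units.mul_inv_eq_iff_eq_mul _).2 ?_
      rw [Repr.unitT, IsUnit.unit_spec, ← LaurentPolynomial.T_add]
      simp
  refine AlgHom.ext fun p => ?_
  induction p using LaurentPolynomial.induction_on' with
  | add p q hp hq => rw [map_add, map_add, hp, hq]
  | C_mul_T n c =>
    have hn : f (LaurentPolynomial.T n) = g (LaurentPolynomial.T n) := by
      have h1 := congrArg (fun z : Eˣ => ((z ^ n : Eˣ) : E)) hu
      simp only [← map_zpow, Units.coe_map, MonoidHom.coe_coe] at h1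
      rwa [hT] at h1
    rw [map_mul, map_mul, hn, show LaurentPolynomial.C c = algebraMap k _ c from rfl, AlgHom.commutes,
      AlgHom.commutes]

theorem mul_comp_inv {S : Scheme.{u}} {G H T : Over S} [GrpObj G] [GrpObj H] (e : Grp.mk G ≅ Grp.mk H)
    (x y : T ⟶ H) : (x * y) ≫ e.inv.hom.hom = (x ≫ e.inv.hom.hom) * (y ≫ e.inv.hom.hom) :=
  MonObj.mul_comp _ _ _

set_option maxHeartbeats 3200000 in
theorem exists_ruling {K : Type u} [Field K] (G X : Over (Spec (CommRingCat.of K))) [GrpObj G]
    (hG : Nonempty (Grp.mk G ≅ Grp.mk (Red.Ga (Spec (CommRingCat.of K)))) ∨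
      Nonempty (Grp.mk G ≅ Grp.mk (Red.Gm (Spec (CommRingCat.of K)))))
    [IsIntegral X.left] [LocallyOfFiniteType X.hom] [IsSeparated X.hom]
    (a : AlgGrp.Action G X) (ha : a.act ≠ snd G X) :
    ∃ (Y : Over (Spec (CommRingCat.of K))) (_ : IsIntegral Y.left) (_ : LocallyOfFiniteType Y.hom)
      (U : X.left.Opens) (V : (𝔸(ULift.{u} (Fin 1); Y.left)).Opens), (U : Set X.left).Nonempty ∧
      Nonempty (Over.mk (U.ι ≫ X.hom) ≅
        Over.mk (V.ι ≫ (𝔸(ULift.{u} (Fin 1); Y.left) ↘ Y.left) ≫ Y.hom)) := by
  let s := Spec.preimage (X.left.fromSpecStalk (genericPoint X.left) ≫ X.hom)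
  letI : Algebra K X.left.functionField := s.hom.toAlgebra
  have halg : X.left.fromSpecStalk (genericPoint X.left) ≫ X.hom =
      Spec.map (CommRingCat.ofHom (algebraMap K X.left.functionField)) := by
    rw [RingHom.algebraMap_toAlgebra, CommRingCat.ofHom_hom, Spec.map_preimage]
  let gen : pt K X.left.functionField ⟶ X := Over.homMk (X.left.fromSpecStalk (genericPoint X.left)) halg
  have hgen : gen.left = X.left.fromSpecStalk (genericPoint X.left) := rfl
  let L := X.left.functionField
  have hconst : ∀ x : L, constHom (k := K) L x = RatFunc.C x := fun x => RatFunc.algebraMap_C x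
  suffices H : ∃ (F : Subfield L) (u : L), (∀ c : K, algebraMap K L c ∈ F) ∧ Transcendental F u ∧
      IntermediateField.adjoin F {u} = ⊤ by
    obtain ⟨F, u, h1, h2, h3⟩ := H
    exact exists_birational_line halg F h1 u h2 h3
  haveI : Algebra.Smooth K (Polynomial K) :=
    { formallySmooth := inferInstance
      finitePresentation := Algebra.FinitePresentation.equiv (MvPolynomial.uniqueAlgEquiv K PUnit.{1}) }
  rcases hG with ⟨⟨e⟩⟩ | ⟨⟨e⟩⟩
  · let i : Red.Ga (Spec (CommRingCat.of K)) ⟶ G := e.inv.hom.hom
    haveI : IsIso i := inferInstanceAs (IsIso ((Grp.forget _).map e.inv))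
    let R := Polynomial K
    let fn : ∀ (C : Type u) [CommRing C] [Algebra K C], (pt K C ⟶ Red.Ga (Spec (CommRingCat.of K))) → C :=
      fun C _ _ x => (Scheme.ΓSpecIso (CommRingCat.of C)).hom (Red.gaFn x)
    have fn_mul : ∀ (C : Type u) [CommRing C] [Algebra K C] (x y : pt K C ⟶ Red.Ga (Spec (CommRingCat.of K))),
        fn C (x * y) = fn C x + fn C y := fun C _ _ x y => by
      show (Scheme.ΓSpecIso (CommRingCat.of C)).hom (Red.gaFn (x * y)) = _
      rw [RedPts.gaFn_mul, map_add]
    have fn_inj : ∀ (C : Type u) [CommRing C] [Algebra K C] (x y : pt K C ⟶ Red.Ga (Spec (CommRingCat.of K))),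
        fn C x = fn C y → x = y := fun C _ _ x y h =>
      RedPts.gaFn_injective ((ConcreteCategory.bijective_of_isIso (Scheme.ΓSpecIso (CommRingCat.of C)).hom).1 h)
    let v : pt K R ⟶ Red.Ga (Spec (CommRingCat.of K)) :=
      RedPts.gaPt (T := pt K R) ((Scheme.ΓSpecIso (CommRingCat.of R)).inv Polynomial.X)
    have hv : fn R v = Polynomial.X := by
      show (Scheme.ΓSpecIso (CommRingCat.of R)).hom (Red.gaFn v) = _
      rw [RedPts.gaFn_gaPt]
      exact Iso.inv_hom_id_apply (Scheme.ΓSpecIso (CommRingCat.of R)) _
    have hmap : ∀ (C : Type u) [CommRing C] [Algebra K C] (φ : R →ₐ[K] C), fn C (ptMap φ ≫ v) = φ Polynomial.X :=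
      fun C _ _ φ => (FixPt13.gaFn_ptMap φ v).trans (congrArg φ hv)
    haveI : IsIso v := FixPt13.exists_iso_of_universal v fun C _ _ x => ⟨Polynomial.aeval (fn C x),
      fn_inj C _ _ (by rw [hmap, Polynomial.aeval_X]), fun φ hφ => Polynomial.algHom_ext (by
        rw [Polynomial.aeval_X, ← hφ, hmap])⟩
    let cB : L →ₐ[K] Polynomial L := Polynomial.CAlgHom (R := K)
    let w : R →ₐ[K] Polynomial L := Polynomial.aeval Polynomial.X
    let jB : Polynomial L →ₐ[K] RatFunc L := IsScalarTower.toAlgHom K (Polynomial L) (RatFunc L)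
    obtain ⟨σ, hlaw, hk, hne⟩ := exists_law gen hgen a ha (v ≫ i) (Polynomial.X : R) cB w
      (fun E _ _ ρ g => ⟨{ Polynomial.eval₂RingHom (ρ : L →+* E) (g Polynomial.X) with
          commutes' := fun c => by
            show Polynomial.eval₂RingHom (ρ : L →+* E) (g Polynomial.X) (algebraMap K (Polynomial L) c) = _
            rw [IsScalarTower.algebraMap_apply K L (Polynomial L), Polynomial.algebraMap_eq]
            simp },
        AlgHom.ext fun x => Polynomial.eval₂_C _ _, Polynomial.algHom_ext (by
          show Polynomial.eval₂RingHom (ρ : L →+* E) (g Polynomial.X) (w Polynomial.X) = _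
          rw [Polynomial.aeval_X]; exact Polynomial.eval₂_X _ _)⟩)
      jB (RatFunc.algebraMap_injective _) (fun _ => rfl)
      (by show algebraMap _ (RatFunc L) (w Polynomial.X) = _
          rw [Polynomial.aeval_X, RatFunc.algebraMap_X])
      addLaw addLaw_injective
      (fun x => by
        rw [hconst]
        show Polynomial.taylor _ ((Polynomial.C x).map RatFunc.C) = _
        rw [Polynomial.map_C, Polynomial.taylor_C])
      (fun g g' g'' hg hg' hg'' => by
        rw [← Category.assoc, ← Category.assoc, ← Category.assoc]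
        refine (mul_comp_inv e _ _).symm.trans ?_
        congr 1
        apply fn_inj
        rw [fn_mul, hmap, hmap, hmap, hg, hg', hg'']
        show _ = algebraMap _ _ (Polynomial.taylor RatFunc.X (Polynomial.map RatFunc.C Polynomial.X))
        rw [Polynomial.map_X, Polynomial.taylor_X, map_add, RatFunc.algebraMap_X])
    obtain ⟨u, hu1, hu2⟩ := exists_generator_ga hlaw hne
    exact ⟨fixedField σ, u, hk, hu1, hu2⟩
  · let i : Red.Gm (Spec (CommRingCat.of K)) ⟶ G := e.inv.hom.hom
    haveI : IsIso i := inferInstanceAs (IsIso ((Grp.forget _).map e.inv))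
    let R := LaurentPolynomial K
    let v : pt K R ⟶ Red.Gm (Spec (CommRingCat.of K)) := Repr.gmPt K (Repr.unitT K)
    have hmap : ∀ (C : Type u) [CommRing C] [Algebra K C] (φ : R →ₐ[K] C),
        ptMap φ ≫ v = Repr.gmPt K (Units.map (φ : R →* C) (Repr.unitT K)) := fun C _ _ φ => Repr.gmPt_map K φ _
    haveI : IsIso v := FixPt13.exists_iso_of_universal v fun C _ _ x => by
      obtain ⟨w, rfl⟩ := (Repr.gmPt K (R := C)).surjective x
      refine ⟨Repr.evalUnit (k := K) w, (hmap C (Repr.evalUnit (k := K) w)).trans (by rw [Repr.evalUnit_unitT]), fun φ hφ => ?_⟩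
      replace hφ := (hmap C φ).symm.trans hφ
      refine laurent_algHom_ext ?_
      have h1 := congrArg (fun z : Cˣ => (z : C)) (((Repr.gmPt K).injective hφ).trans (Repr.evalUnit_unitT (k := K) w).symm)
      exact h1
    haveI : IsLocalization.Away (Polynomial.X : Polynomial K) R := LaurentPolynomial.isLocalization
    haveI : Algebra.Smooth (Polynomial K) R := Algebra.Smooth.of_isLocalization_Away (Polynomial.X : Polynomial K)
    haveI : IsScalarTower K (Polynomial K) R := IsScalarTower.of_algebraMap_eq fun c =>
      (Polynomial.toLaurent_C c).symm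
    haveI : Algebra.Smooth K R := Algebra.Smooth.comp K (Polynomial K) R
    let B := Localization.Away (Polynomial.X : Polynomial L)
    let j₀ : Polynomial L →ₐ[K] RatFunc L := IsScalarTower.toAlgHom K (Polynomial L) (RatFunc L)
    have hX : j₀ Polynomial.X ≠ 0 := by
      show algebraMap _ (RatFunc L) Polynomial.X ≠ 0
      rw [RatFunc.algebraMap_X]; exact RatFunc.X_ne_zero
    let jB : B →ₐ[K] RatFunc L := awayHom j₀ hX
    haveI : IsDomain B := IsLocalization.isDomain_localization
      (powers_le_nonZeroDivisors_of_noZeroDivisors Polynomial.X_ne_zero)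
    let cB : L →ₐ[K] B := (IsScalarTower.toAlgHom K (Polynomial L) B).comp (Polynomial.CAlgHom (R := K))
    have hxu : IsUnit (algebraMap (Polynomial L) B Polynomial.X) :=
      IsLocalization.map_units B (⟨Polynomial.X, 1, pow_one _⟩ : Submonoid.powers (Polynomial.X : Polynomial L))
    let w : R →ₐ[K] B := Repr.evalUnit hxu.unit
    have hwT : w (LaurentPolynomial.T 1) = algebraMap (Polynomial L) B Polynomial.X :=
      congrArg (fun z : Bˣ => (z : B)) (Repr.evalUnit_unitT (k := K) hxu.unit)
    obtain ⟨σ, hlaw, hk, hne⟩ := exists_law gen hgen a ha (v ≫ i) (LaurentPolynomial.T 1 : R) cB w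
      (fun E _ _ ρ g => by
        let f : Polynomial L →ₐ[K] E :=
          { Polynomial.eval₂RingHom (ρ : L →+* E) (g (LaurentPolynomial.T 1)) with
            commutes' := fun c => by
              show Polynomial.eval₂RingHom (ρ : L →+* E) (g _) (algebraMap K (Polynomial L) c) = _
              rw [IsScalarTower.algebraMap_apply K L (Polynomial L), Polynomial.algebraMap_eq]
              simp }
        have hgu : IsUnit (g (LaurentPolynomial.T 1)) := (LaurentPolynomial.isUnit_T 1).map g
        have hfX : f Polynomial.X ≠ 0 := by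
          show Polynomial.eval₂ (ρ : L →+* E) (g _) Polynomial.X ≠ 0
          rw [Polynomial.eval₂_X]; exact hgu.ne_zero
        refine ⟨awayHom f hfX, AlgHom.ext fun x => ?_, laurent_algHom_ext ?_⟩
        · exact (awayHom_algebraMap f hfX _).trans (Polynomial.eval₂_C _ _)
        · show awayHom f hfX (w (LaurentPolynomial.T 1)) = _
          rw [hwT, awayHom_algebraMap]
          exact Polynomial.eval₂_X _ _)
      jB (awayHom_injective j₀ (RatFunc.algebraMap_injective _) hX)
      (fun x => awayHom_algebraMap j₀ hX _)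
      (by show awayHom j₀ hX (w (LaurentPolynomial.T 1)) = _
          rw [hwT, awayHom_algebraMap]; exact RatFunc.algebraMap_X)
      mulLaw mulLaw_injective
      (fun x => by
        rw [hconst]
        show ((Polynomial.C x).map RatFunc.C).comp _ = _
        rw [Polynomial.map_C, Polynomial.C_comp])
      (fun g g' g'' hg hg' hg'' => by
        rw [← Category.assoc, ← Category.assoc, ← Category.assoc]
        refine (mul_comp_inv e _ _).symm.trans ?_
        congr 1
        rw [hmap, hmap, hmap, ← map_mul]
        congr 1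
        refine Units.ext ?_
        show g (LaurentPolynomial.T 1) * g' (LaurentPolynomial.T 1) = g'' (LaurentPolynomial.T 1)
        rw [hg, hg', hg'']
        show _ = algebraMap _ _ ((Polynomial.map RatFunc.C Polynomial.X).comp _)
        rw [Polynomial.map_X, Polynomial.X_comp, map_mul, RatFunc.algebraMap_X, mul_comm])
    obtain ⟨u, hu1, hu2⟩ := exists_generator_gm hlaw hne
    exact ⟨fixedField σ, u, hk, hu1, hu2⟩

end GrothLib.RuledGa21
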