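import Mathlib.FieldTheory.RatFunc.Basic
import Mathlib.Algebra.Polynomial.HasseDeriv
import Mathlib.Algebra.Polynomial.Taylor
import Mathlib.RingTheory.AlgebraicIndependent.Basic
import Mathlib.FieldTheory.IntermediateField.Adjoin.Basic
import Mathlib.FieldTheory.RatFunc.AsPolynomial
import Mathlib.RingTheory.Polynomial.Vieta
import Mathlib.Algebra.Group.Subgroup.ZPowers.Basic
import Mathlib.GroupTheory.Archimedean

/-!
# A field with a non-trivial rational flow of the line is rational over its invariants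
-/

set_option autoImplicit false
set_option backward.isDefEq.respectTransparency false

universe u

open Polynomial

noncomputable section

namespace GrothLib.RuledGa21

variable {L : Type u} [Field L]

/-- The polynomial ring inside the rational functions. -/
abbrev toRF : L[X] →+* RatFunc L := algebraMap L[X] (RatFunc L)

/-- The polynomials `P(x + t)` (additive law). -/
def addLaw : L[X] →+* (RatFunc L)[X] :=
  (taylorAlgHom (RatFunc.X : RatFunc L)).toRingHom.comp (mapRingHom RatFunc.C)

/-- The polynomials `P(t x)` (multiplicative law). -/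
def mulLaw : L[X] →+* (RatFunc L)[X] :=
  (compRingHom (Polynomial.C (RatFunc.X : RatFunc L) * Polynomial.X)).comp (mapRingHom RatFunc.C)

/-- The invariants of a flow. -/
def fixedField (σ : L →+* RatFunc L) : Subfield L := RingHom.eqLocusField σ RatFunc.C

theorem mem_fixedField (σ : L →+* RatFunc L) (c : L) : c ∈ fixedField σ ↔ σ c = RatFunc.C c := Iff.rfl

variable {σ : L →+* RatFunc L}

/-- The translation law for the fractions `σ f`. -/
def Law (ψ : L[X] →+* (RatFunc L)[X]) (σ : L →+* RatFunc L) : Prop :=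
  ∀ f : L, (σ f).num.map σ * ψ (σ f).denom = ψ (σ f).num * (σ f).denom.map σ

theorem law_split {ψ : L[X] →+* (RatFunc L)[X]} (h : Law ψ σ) (hdeg : ∀ P : L[X], (ψ P).natDegree = P.natDegree)
    (f : L) : ∃ c : RatFunc L, ψ (σ f).denom = Polynomial.C c * (σ f).denom.map σ ∧
      ψ (σ f).num = Polynomial.C c * (σ f).num.map σ ∧ c = (ψ (σ f).denom).leadingCoeff := by
  have hmon : ((σ f).denom.map σ).Monic := (RatFunc.monic_denom _).map σ
  have hcop : IsCoprime ((σ f).denom.map σ) ((σ f).num.map σ) :=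
    ((RatFunc.isCoprime_num_denom (σ f)).map (mapRingHom σ)).symm
  obtain ⟨w, hw⟩ : (σ f).denom.map σ ∣ ψ (σ f).denom := by
    refine hcop.dvd_of_dvd_mul_left (y := (σ f).num.map σ) ?_
    rw [h f]
    exact dvd_mul_left _ _
  have hdd : (ψ (σ f).denom).natDegree = ((σ f).denom.map σ).natDegree := by
    rw [hdeg, natDegree_map]
  have hw' : w = Polynomial.C w.leadingCoeff := by
    by_cases hw0 : w = 0
    · simp [hw0]
    have hwd : w.natDegree = 0 := by
      have := hmon.natDegree_mul' hw0
      rw [← hw, hdd] at this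
      omega
    conv_lhs => rw [eq_C_of_natDegree_eq_zero hwd]
    rw [leadingCoeff, hwd]
  refine ⟨w.leadingCoeff, ?_, ?_, ?_⟩
  · rw [hw, mul_comm, ← hw']
  · apply mul_right_cancel₀ hmon.ne_zero
    rw [← h f, hw, ← hw']
    ring
  · rw [hw, leadingCoeff_mul, hmon.leadingCoeff, one_mul]

section Ga

theorem natDegree_addLaw (P : L[X]) : (addLaw P).natDegree = P.natDegree := by
  show (taylor (RatFunc.X : RatFunc L) (P.map RatFunc.C)).natDegree = _
  rw [natDegree_taylor, natDegree_map]

theorem coeff_addLaw (P : L[X]) (j : ℕ) : (addLaw P).coeff j = toRF (hasseDeriv j P) := by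
  show (taylor (RatFunc.X : RatFunc L) (P.map RatFunc.C)).coeff j = _
  rw [taylor_coeff]
  have h1 : hasseDeriv j (P.map RatFunc.C) = (hasseDeriv j P).map RatFunc.C := by
    ext m
    simp [hasseDeriv_coeff]
  rw [h1, eval_map]
  induction hasseDeriv j P using Polynomial.induction_on' with
  | add a b ha hb => rw [eval₂_add, map_add, ha, hb]
  | monomial m a =>
    rw [eval₂_monomial, ← C_mul_X_pow_eq_monomial, map_mul, map_pow]
    simp [toRF]

theorem ga_coeffs (h : Law addLaw σ) (f : L) (j : ℕ) :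
    σ ((σ f).num.coeff j) = toRF (hasseDeriv j (σ f).num) ∧
      σ ((σ f).denom.coeff j) = toRF (hasseDeriv j (σ f).denom) := by
  obtain ⟨c, h1, h2, hc⟩ := law_split h natDegree_addLaw f
  have hc1 : c = 1 := by
    rw [hc, leadingCoeff, natDegree_addLaw, coeff_addLaw]
    have : hasseDeriv (σ f).denom.natDegree (σ f).denom = Polynomial.C (σ f).denom.leadingCoeff := by
      ext m
      rw [hasseDeriv_coeff, coeff_C]
      split_ifs with hm
      · subst hm
        rw [Nat.zero_add, Nat.choose_self, Nat.cast_one, one_mul]; rfl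
      · rw [coeff_eq_zero_of_natDegree_lt (by omega), mul_zero]
    rw [this, (RatFunc.monic_denom _).leadingCoeff, map_one, map_one]
  rw [hc1, map_one, one_mul] at h1 h2
  constructor
  · rw [← coeff_map, ← h2, coeff_addLaw]
  · rw [← coeff_map, ← h1, coeff_addLaw]

/-- Elements with polynomial orbit. -/
def PolyOrbit (σ : L →+* RatFunc L) (c : L) (p : L[X]) : Prop := σ c = toRF p

theorem polyOrbit_coeff (h : Law addLaw σ) {c : L} {p : L[X]} (hc : PolyOrbit σ c p) (j : ℕ) :
    PolyOrbit σ (p.coeff j) (hasseDeriv j p) := by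
  have h1 := (ga_coeffs h c j).1
  have hn : (σ c).num = p := by rw [show σ c = toRF p from hc]; exact RatFunc.num_algebraMap p
  rwa [hn] at h1

theorem ga_generated (h : Law addLaw σ) (f : L) :
    ∃ a b : L, (∃ p, PolyOrbit σ a p) ∧ (∃ p, PolyOrbit σ b p) ∧ f = a / b := by
  refine ⟨(σ f).num.coeff 0, (σ f).denom.coeff 0, ⟨_, (ga_coeffs h f 0).1⟩, ⟨_, (ga_coeffs h f 0).2⟩, ?_⟩
  apply σ.injective
  rw [map_div₀, (ga_coeffs h f 0).1, (ga_coeffs h f 0).2, hasseDeriv_zero]
  exact (RatFunc.num_div_denom _).symm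

theorem mem_of_natDegree_zero (h : Law addLaw σ) {c : L} {p : L[X]} (hc : PolyOrbit σ c p)
    (hp : p.natDegree = 0) : c ∈ fixedField σ := by
  have hpc : p.coeff 0 = c := by
    apply σ.injective
    rw [polyOrbit_coeff h hc 0, hasseDeriv_zero]
    exact hc.symm
  rw [mem_fixedField, hc]
  conv_lhs => rw [eq_C_of_natDegree_eq_zero hp, hpc]
  exact RatFunc.algebraMap_C c

theorem natDegree_hasse {p : L[X]} {i : ℕ} (hi : i ≤ p.natDegree) (hb : ((p.natDegree).choose i : L) ≠ 0) :
    (hasseDeriv i p).natDegree = p.natDegree - i := by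
  by_cases hp : p = 0
  · simp [hp]
  refine le_antisymm (natDegree_hasseDeriv_le p i) (le_natDegree_of_ne_zero ?_)
  rw [hasseDeriv_coeff, Nat.sub_add_cancel hi]
  exact mul_ne_zero hb (leadingCoeff_ne_zero.2 hp)

theorem exists_generator_ga (h : Law addLaw σ) (hne : ∃ f, σ f ≠ RatFunc.C f) :
    ∃ u : L, Transcendental (fixedField σ) u ∧ IntermediateField.adjoin (fixedField σ) {u} = ⊤ := by
  classical
  have hex : ∃ d : ℕ, 0 < d ∧ ∃ c p, PolyOrbit σ c p ∧ p.natDegree = d := by
    obtain ⟨f, hf⟩ := hne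
    by_contra hcon
    refine hf ((mem_fixedField σ f).1 ?_)
    obtain ⟨a, b, ⟨p, hp⟩, ⟨p', hp'⟩, rfl⟩ := ga_generated h f
    refine div_mem (mem_of_natDegree_zero h hp ?_) (mem_of_natDegree_zero h hp' ?_)
    · by_contra hd; exact hcon ⟨_, Nat.pos_of_ne_zero hd, a, p, hp, rfl⟩
    · by_contra hd; exact hcon ⟨_, Nat.pos_of_ne_zero hd, b, p', hp', rfl⟩
  obtain ⟨hq0, u, p, hu, hpq⟩ := Nat.find_spec hex
  set q := Nat.find hex
  have hmin : ∀ c p, PolyOrbit σ c p → p.natDegree < q → p.natDegree = 0 := fun c p hc hlt => by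
    by_contra hd
    exact Nat.find_min hex hlt ⟨Nat.pos_of_ne_zero hd, c, p, hc, rfl⟩
  have hchoose : ∀ i, 0 < i → i < q → (q.choose i : L) = 0 := by
    intro i hi hiq
    by_contra hb
    have hd := natDegree_hasse (p := p) (i := i) (by omega) (by rwa [hpq])
    have := hmin _ _ (polyOrbit_coeff h hu i) (by omega)
    omega
  have hfrob : ((1 : L[X]) + Polynomial.X) ^ q = 1 + Polynomial.X ^ q := by
    ext i
    rw [coeff_one_add_X_pow, coeff_add, coeff_one, coeff_X_pow]
    rcases lt_trichotomy i q with hi | rfl | hi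
    · rcases Nat.eq_zero_or_pos i with rfl | hi0
      · simp [hq0.ne]
      · simp [hchoose i hi0 hi, hi.ne, hi0.ne']
    · simp [hq0.ne']
    · simp [Nat.choose_eq_zero_of_lt hi, (hq0.trans hi).ne', hi.ne']
  have hdvd : ∀ c p, PolyOrbit σ c p → q ∣ p.natDegree := by
    intro c g hg
    refine Nat.dvd_of_mod_eq_zero ?_
    set d := g.natDegree
    by_contra hr
    have hlt : d % q < q := Nat.mod_lt _ hq0
    have hb : (d.choose (d % q) : L) = 1 := by
      have h1 : ((1 : L[X]) + Polynomial.X) ^ d = (1 + Polynomial.X) ^ (d % q) * (1 + Polynomial.X ^ q) ^ (d / q) := by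
        rw [← hfrob, ← pow_mul, ← pow_add, Nat.mod_add_div]
      rw [← coeff_one_add_X_pow L d (d % q), h1, coeff_mul, Finset.sum_eq_single (d % q, 0)]
      · have h2 : ((1 + Polynomial.X ^ q : L[X]) ^ (d / q)).coeff 0 = 1 := by
          rw [coeff_zero_eq_eval_zero]; simp [hq0.ne']
        rw [h2, coeff_one_add_X_pow, Nat.choose_self]; simp
      · rintro ⟨i, j⟩ hij hne'
        rw [Finset.mem_antidiagonal] at hij
        simp only at hij
        have hj : j < q := by omega
        have hj0 : j ≠ 0 := fun hz => hne' (by subst hz; simp at hij; simp [hij])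
        rw [show ((1 + Polynomial.X ^ q : L[X]) ^ (d / q)) = expand L q ((1 + Polynomial.X) ^ (d / q)) by
          simp, coeff_expand hq0, if_neg, mul_zero]
        exact fun hdv => hj0 (Nat.eq_zero_of_dvd_of_lt hdv hj)
      · simp
    have hd := natDegree_hasse (p := g) (i := d - d % q) (Nat.sub_le _ _)
      (by rw [Nat.choose_symm (Nat.mod_le _ _), hb]; exact one_ne_zero)
    have := hmin _ _ (polyOrbit_coeff h hg (d - d % q))
      (by have := Nat.mod_le d q; omega)
    have := Nat.mod_le d q
    omega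
  -- leading coefficients are invariant
  have hlead : ∀ c g, PolyOrbit σ c g → g.leadingCoeff ∈ fixedField σ := by
    intro c g hg
    refine mem_of_natDegree_zero h (polyOrbit_coeff h hg g.natDegree) ?_
    have := natDegree_hasseDeriv_le g g.natDegree
    omega
  let F := fixedField σ
  let N := IntermediateField.adjoin F {u}
  have huN : u ∈ N := IntermediateField.subset_adjoin F _ rfl
  have hFN : ∀ c ∈ F, c ∈ N := fun c hc => N.algebraMap_mem ⟨c, hc⟩
  have hp0 : p ≠ 0 := fun e => by rw [e, natDegree_zero] at hpq; omega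
  have hmem : ∀ d, ∀ c g, PolyOrbit σ c g → g.natDegree ≤ d → c ∈ N := by
    intro d
    induction d with
    | zero => exact fun c g hc hg => hFN c (mem_of_natDegree_zero h hc (by omega))
    | succ d ih =>
      intro c g hc hg
      by_cases hlt : g.natDegree ≤ d
      · exact ih c g hc hlt
      obtain ⟨m, hm⟩ := hdvd c g hc
      let κ := g.leadingCoeff / p.leadingCoeff ^ m
      have hκ : κ ∈ F := div_mem (hlead c g hc) (pow_mem (hlead u p hu) m)
      have hc' : PolyOrbit σ (c - κ * u ^ m) (g - Polynomial.C κ * p ^ m) := by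
        show σ _ = toRF _
        rw [map_sub, map_mul, map_pow, (mem_fixedField σ κ).1 hκ, hc, hu, map_sub, map_mul, map_pow]
        simp [toRF]
      have hdeg : (g - Polynomial.C κ * p ^ m).natDegree ≤ d := by
        have hk0 : κ ≠ 0 := div_ne_zero (leadingCoeff_ne_zero.2 (fun e => by simp [e] at hlt))
          (pow_ne_zero _ (leadingCoeff_ne_zero.2 hp0))
        have hle : (g - Polynomial.C κ * p ^ m).natDegree ≤ d + 1 := by
          refine (natDegree_sub_le _ _).trans (max_le hg ?_)
          rw [natDegree_C_mul hk0, natDegree_pow, hpq, mul_comm, ← hm]; exact hg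
        refine Nat.lt_succ_iff.1 (lt_of_le_of_ne hle fun e => ?_)
        have hg1 : g.natDegree = d + 1 := by omega
        have h0 : (g - Polynomial.C κ * p ^ m).coeff (d + 1) = 0 := by
          have h3 : (p ^ m).coeff (m * p.natDegree) = p.leadingCoeff ^ m := by
            rw [← natDegree_pow, ← leadingCoeff_pow]; rfl
          rw [coeff_sub, coeff_C_mul, show d + 1 = m * p.natDegree by rw [hpq, mul_comm, ← hm, hg1], h3,
            div_mul_cancel₀ _ (pow_ne_zero _ (leadingCoeff_ne_zero.2 hp0)), show m * p.natDegree = g.natDegree by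
              rw [hpq, mul_comm, ← hm]]
          exact sub_self _
        have hne0 : g - Polynomial.C κ * p ^ m ≠ 0 := fun e0 => by rw [e0, natDegree_zero] at e; omega
        exact leadingCoeff_ne_zero.2 hne0 (by rw [leadingCoeff, e]; exact h0)
      have := add_mem (ih _ _ hc' hdeg) (mul_mem (hFN κ hκ) (pow_mem huN m))
      simpa using this
  refine ⟨u, ?_, ?_⟩
  · rw [transcendental_iff]
    intro P hP
    have h1 : (P.map F.subtype).comp p = 0 := by
      apply RatFunc.algebraMap_injective L
      rw [map_zero, ← map_zero σ, ← hP]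
      clear hP
      induction P using Polynomial.induction_on' with
      | add a b ha hb => rw [Polynomial.map_add, add_comp, map_add, ha, hb, map_add, map_add]
      | monomial m c =>
        rw [aeval_monomial, map_mul, map_pow, hu]
        show _ = σ (c : L) * _
        rw [(mem_fixedField σ c).1 c.2, map_monomial, monomial_comp, map_mul, map_pow]
        simp [toRF]
    rcases comp_eq_zero_iff.1 h1 with h2 | ⟨-, h2⟩
    · exact (Polynomial.map_eq_zero F.subtype).1 h2
    · exfalso
      rw [h2, natDegree_C] at hpq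
      omega
  · refine eq_top_iff.2 fun f _ => ?_
    obtain ⟨a, b, ⟨g, hg⟩, ⟨g', hg'⟩, rfl⟩ := ga_generated h f
    exact div_mem (hmem _ a g hg le_rfl) (hmem _ b g' hg' le_rfl)

end Ga

section Gm

theorem natDegree_mulLaw (P : L[X]) : (mulLaw P).natDegree = P.natDegree := by
  show ((P.map RatFunc.C).comp (Polynomial.C (RatFunc.X : RatFunc L) * Polynomial.X)).natDegree = _
  rw [natDegree_comp, natDegree_map, natDegree_C_mul_X _ RatFunc.X_ne_zero, mul_one]

theorem coeff_mulLaw (P : L[X]) (j : ℕ) : (mulLaw P).coeff j = RatFunc.C (P.coeff j) * RatFunc.X ^ j := by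
  show ((P.map RatFunc.C).comp (Polynomial.C (RatFunc.X : RatFunc L) * Polynomial.X)).coeff j = _
  rw [comp_C_mul_X_coeff, coeff_map]

/-- Semi-invariants of weight `n`. -/
def Semi (σ : L →+* RatFunc L) (c : L) (n : ℤ) : Prop := σ c = RatFunc.C c * RatFunc.X ^ n

theorem gm_generated (h : Law mulLaw σ) (f : L) :
    ∃ (s : ℕ) (a b : Fin s → L) (n : Fin s → ℤ),
      (∀ i, Semi σ (a i) (n i) ∧ Semi σ (b i) (n i)) ∧ f = (∑ i, a i) / (∑ i, b i) := by
  obtain ⟨c, h1, h2, hc⟩ := law_split h natDegree_mulLaw f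
  set Q := (σ f).denom
  set P := (σ f).num
  have hc' : c = RatFunc.X ^ Q.natDegree := by
    rw [hc, leadingCoeff, natDegree_mulLaw, coeff_mulLaw]
    rw [show Q.coeff Q.natDegree = 1 from (RatFunc.monic_denom (σ f)).leadingCoeff, map_one, one_mul]
  have hsemi : ∀ (R : L[X]), mulLaw R = Polynomial.C c * R.map σ → ∀ j : ℕ,
      Semi σ (R.coeff j) ((j : ℤ) - Q.natDegree) := by
    intro R hR j
    have := congrArg (fun z : (RatFunc L)[X] => z.coeff j) hR
    simp only [coeff_mulLaw, coeff_C_mul, coeff_map, hc'] at this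
    show σ _ = _
    rw [zpow_sub₀ RatFunc.X_ne_zero, zpow_natCast, zpow_natCast, ← mul_div_assoc, this, mul_div_assoc,
      mul_comm, div_mul_cancel₀ _ (pow_ne_zero _ RatFunc.X_ne_zero)]
  let s := max P.natDegree Q.natDegree + 1
  have hsum : ∀ R : L[X], R.natDegree < s → mulLaw R = Polynomial.C c * R.map σ →
      σ (∑ i : Fin s, R.coeff i) = toRF R / c := by
    intro R hd hR
    rw [map_sum, hc', eq_div_iff (pow_ne_zero _ RatFunc.X_ne_zero), Finset.sum_mul]
    conv_rhs => rw [R.as_sum_range' s hd, ← Fin.sum_univ_eq_sum_range, map_sum]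
    refine Finset.sum_congr rfl fun i _ => ?_
    rw [hsemi R hR i, zpow_sub₀ RatFunc.X_ne_zero, zpow_natCast, zpow_natCast, mul_assoc,
      div_mul_cancel₀ _ (pow_ne_zero _ RatFunc.X_ne_zero), ← C_mul_X_pow_eq_monomial, map_mul, map_pow]
    simp [toRF]
  refine ⟨s, fun i => P.coeff i, fun i => Q.coeff i, fun i => (i : ℤ) - Q.natDegree,
    fun i => ⟨hsemi P h2 i, hsemi Q h1 i⟩, ?_⟩
  apply σ.injective
  rw [map_div₀, hsum P (by omega) h2, hsum Q (by omega) h1,
    div_div_div_cancel_right₀ (by rw [hc']; exact pow_ne_zero _ RatFunc.X_ne_zero)]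
  exact (RatFunc.num_div_denom _).symm

theorem exists_generator_gm (h : Law mulLaw σ) (hne : ∃ f, σ f ≠ RatFunc.C f) :
    ∃ u : L, Transcendental (fixedField σ) u ∧ IntermediateField.adjoin (fixedField σ) {u} = ⊤ := by
  classical
  have semi_mul : ∀ {a b : L} {m n : ℤ}, Semi σ a m → Semi σ b n → Semi σ (a * b) (m + n) := by
    intro a b m n ha hb
    show σ _ = _
    rw [map_mul, ha, hb, zpow_add₀ RatFunc.X_ne_zero, map_mul]
    ring
  have semi_inv : ∀ {a : L} {m : ℤ}, Semi σ a m → Semi σ a⁻¹ (-m) := by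
    intro a m ha
    show σ _ = _
    rw [map_inv₀, ha, mul_inv, zpow_neg, map_inv₀]
  let W : AddSubgroup ℤ :=
    { carrier := {n | ∃ c : L, c ≠ 0 ∧ Semi σ c n}
      add_mem' := fun ⟨a, ha0, ha⟩ ⟨b, hb0, hb⟩ => ⟨a * b, mul_ne_zero ha0 hb0, semi_mul ha hb⟩
      zero_mem' := ⟨1, one_ne_zero, by simp [Semi]⟩
      neg_mem' := fun ⟨a, ha0, ha⟩ => ⟨a⁻¹, inv_ne_zero ha0, semi_inv ha⟩ }
  have hW : ∃ n : ℤ, n ∈ W ∧ 0 < n := by
    by_contra hcon
    obtain ⟨f, hf⟩ := hne
    refine hf ((mem_fixedField σ f).1 ?_)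
    obtain ⟨s, a, b, n, hab, rfl⟩ := gm_generated h f
    have hz : ∀ (c : L) (n : ℤ), Semi σ c n → c ∈ fixedField σ := by
      intro c n hc
      by_cases hc0 : c = 0
      · rw [hc0]; exact zero_mem _
      have : n = 0 := by
        rcases lt_trichotomy n 0 with hn | hn | hn
        · exact absurd ⟨-n, W.neg_mem ⟨c, hc0, hc⟩, by omega⟩ hcon
        · exact hn
        · exact absurd ⟨n, ⟨c, hc0, hc⟩, hn⟩ hcon
      rw [mem_fixedField, hc, this, zpow_zero, mul_one]
    exact div_mem (sum_mem fun i _ => hz _ _ (hab i).1) (sum_mem fun i _ => hz _ _ (hab i).2)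
  obtain ⟨k, hk⟩ := Int.subgroup_cyclic W
  obtain ⟨n, hn, hn0⟩ := hW
  have hkW : k ∈ W := by rw [hk]; exact AddSubgroup.subset_closure rfl
  obtain ⟨u, hu0, hu⟩ := hkW
  have hk0 : k ≠ 0 := by
    intro e
    rw [hk, e, AddSubgroup.mem_closure_singleton] at hn
    obtain ⟨m, hm⟩ := hn
    simp at hm; omega
  let F := fixedField σ
  let N := IntermediateField.adjoin F {u}
  have huN : u ∈ N := IntermediateField.subset_adjoin F _ rfl
  have hmem : ∀ c m, Semi σ c m → c ∈ N := by
    intro c m hc
    by_cases hc0 : c = 0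
    · rw [hc0]; exact zero_mem _
    have hm : m ∈ W := ⟨c, hc0, hc⟩
    rw [hk, AddSubgroup.mem_closure_singleton] at hm
    obtain ⟨l, hl⟩ := hm
    have hinv : c * (u ^ l)⁻¹ ∈ F := by
      rw [mem_fixedField, map_mul, map_inv₀, map_zpow₀, hc, hu, mul_zpow, ← zpow_mul,
        show k * l = m by rw [← hl, smul_eq_mul, mul_comm], map_mul, map_inv₀, map_zpow₀]
      field_simp [zpow_ne_zero m (RatFunc.X_ne_zero : (RatFunc.X : RatFunc L) ≠ 0)]
    have := mul_mem (N.algebraMap_mem ⟨_, hinv⟩) (zpow_mem huN l)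
    change c * (u ^ l)⁻¹ * u ^ l ∈ N at this
    rwa [inv_mul_cancel_right₀ (zpow_ne_zero l hu0)] at this
  refine ⟨u, ?_, ?_⟩
  · -- the powers of `u` have distinct weights
    intro halg
    have h1 : IsAlgebraic L (RatFunc.X : RatFunc L) := by
      obtain ⟨P, hP0, hP⟩ := halg
      have h2 : Polynomial.aeval ((RatFunc.X : RatFunc L) ^ k)
          ((P.map F.subtype).comp (Polynomial.C u * Polynomial.X)) = 0 := by
        rw [← map_zero σ, ← hP]
        clear hP hP0
        induction P using Polynomial.induction_on' with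
        | add a b ha hb => rw [Polynomial.map_add, add_comp, map_add, ha, hb, map_add, map_add]
        | monomial m c =>
          rw [map_monomial, monomial_comp, map_mul, aeval_C, map_pow, map_mul, aeval_C, aeval_X,
            aeval_monomial, map_mul, map_pow, hu]
          show _ = σ (c : L) * _
          rw [(mem_fixedField σ c).1 c.2, RatFunc.algebraMap_eq_C]
          rfl
      have h3 : IsAlgebraic L ((RatFunc.X : RatFunc L) ^ k) := by
        refine ⟨_, fun e => hP0 ?_, h2⟩
        rcases comp_eq_zero_iff.1 e with h | ⟨-, h⟩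
        · exact (Polynomial.map_eq_zero F.subtype).1 h
        · exfalso
          have := congrArg Polynomial.natDegree h
          rw [natDegree_C_mul_X _ hu0, natDegree_C] at this
          exact one_ne_zero this
      rcases Int.eq_nat_or_neg k with ⟨m, rfl | rfl⟩
      · rw [zpow_natCast] at h3; exact h3.of_pow (by omega)
      · rw [zpow_neg, zpow_natCast] at h3; exact (IsAlgebraic.inv_iff.1 h3).of_pow (by omega)
    exact RatFunc.transcendental_X h1
  · refine eq_top_iff.2 fun f _ => ?_
    obtain ⟨s, a, b, n, hab, rfl⟩ := gm_generated h f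
    exact div_mem (sum_mem fun i _ => hmem _ _ (hab i).1) (sum_mem fun i _ => hmem _ _ (hab i).2)

end Gm

end GrothLib.RuledGa21
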